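import Mathlib

/-!
Invariants of a finite family of linear maps commute with flat base change, and a criterion for
surjectivity on residue fields over a separably closed field.
-/

universe u v

open TensorProduct

namespace Groth.Agent.EquivEtInvLib

theorem tensor_fixed {C A T N : Type u} [CommRing C] [AddCommGroup A] [Module C A] [AddCommGroup N]
    [Module C N] [AddCommGroup T] [Module C T] [Module.Flat C T] {I : Type v} [Finite I]
    (δ : I → A →ₗ[C] A) (ι : N →ₗ[C] A) (hfix : ∀ a, (∀ g, δ g a = a) ↔ a ∈ LinearMap.range ι)
    (u : T ⊗[C] A) (hu : ∀ g, (δ g).lTensor T u = u) : u ∈ LinearMap.range (ι.lTensor T) := by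
  classical
  cases nonempty_fintype I
  let Δ : A →ₗ[C] (I → A) := LinearMap.pi fun g => δ g - LinearMap.id
  have hex : Function.Exact ι Δ := fun a => by
    constructor
    · intro h
      exact (hfix a).mp fun g => sub_eq_zero.mp (congrFun h g)
    · intro h
      exact funext fun g => sub_eq_zero.mpr ((hfix a).mpr h g)
  have h0 : Δ.lTensor T u = 0 := by
    apply (TensorProduct.piRight C C T fun _ : I => A).injective
    rw [map_zero]
    funext g
    have h1 : ∀ w, TensorProduct.piRight C C T (fun _ : I => A) (Δ.lTensor T w) g
        = (δ g).lTensor T w - w := by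
      intro w
      induction w using TensorProduct.induction_on with
      | zero => simp
      | add x y hx hy => simp only [map_add, Pi.add_apply, hx, hy]; abel
      | tmul t a => simp [Δ, tmul_sub]
    rw [h1, hu, sub_self, Pi.zero_apply]
  exact (Module.Flat.lTensor_exact T hex u).mp h0

theorem isPurelyInseparable_of_isSepClosed (K E : Type u) [Field K] [Field E] [IsSepClosed K]
    [Algebra K E] [Algebra.IsAlgebraic K E] : IsPurelyInseparable K E where
  isIntegral := Algebra.IsAlgebraic.isIntegral
  inseparable' x hx := minpoly.degree_eq_one_iff.mp (IsSepClosed.degree_eq_one_of_irreducible K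
    (minpoly.irreducible (Algebra.IsIntegral.isIntegral x)) hx)

theorem surjective_of_isSepClosed (K F E : Type u) [Field K] [Field F] [Field E] [IsSepClosed K]
    [Algebra K F] [Algebra F E] [Algebra K E] [IsScalarTower K F E] [Algebra.IsAlgebraic K E]
    [Algebra.IsSeparable F E] : Function.Surjective (algebraMap F E) := by
  haveI := isPurelyInseparable_of_isSepClosed K E
  haveI : IsPurelyInseparable F E := IsPurelyInseparable.tower_top (F := K) F E
  exact IsPurelyInseparable.surjective_algebraMap_of_isSeparable F E

theorem idem_eq_one {L : Type u} [CommRing L] [IsLocalRing L] {e : L} (he : IsIdempotentElem e)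
    (h0 : e ≠ 0) : e = 1 := by
  have h : e * (1 - e) = 0 := by rw [mul_sub, mul_one, he.eq, sub_self]
  rcases IsLocalRing.isUnit_or_isUnit_one_sub_self e with hu | hu
  · exact (sub_eq_zero.mp (hu.mul_right_eq_zero.mp h)).symm
  · exact absurd (hu.mul_left_eq_zero.mp h) h0

end Groth.Agent.EquivEtInvLib
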