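import Mathlib
import Groth.Agent.EquivEtInvLib.Fixed
import Groth.Agent.HenselLib.Local
import Groth.Agent.HenselLib.FiniteDecomp

/-!
Invariants under inertia of an equivariant map which is étale at a fixed point: over a strictly
henselian flat local algebra, they become isomorphic to the base.
-/

set_option autoImplicit false
set_option maxHeartbeats 1000000
set_option synthInstance.maxHeartbeats 200000

universe u v

open TensorProduct IsLocalRing
open scoped Pointwise

namespace Groth.Agent.EquivEtInvLib

/-- The local factor of a finite type algebra over a henselian ring at a quasi-finite point. -/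
theorem exists_idem_local {T A : Type u} [CommRing T] [HenselianLocalRing T] [CommRing A] [Algebra T A]
    [Algebra.FiniteType T A] (x : Ideal A) [x.IsPrime] [x.LiesOver (maximalIdeal T)]
    [Algebra.QuasiFiniteAt T x] :
    ∃ e : A, IsIdempotentElem e ∧ e ∉ x ∧
      Module.Finite T (A ⧸ Ideal.span ({1 - e} : Set A)) ∧
      IsLocalRing (A ⧸ Ideal.span ({1 - e} : Set A)) := by
  classical
  obtain ⟨e₀, he₀, hfin, hno⟩ := HenselLib.exists_idem_quasiFinite (A := T) (B := A)
  have he₀x : e₀ ∉ x := by
    intro hmem
    let I := Ideal.span ({e₀} : Set A)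
    have hle : RingHom.ker (Ideal.Quotient.mk I) ≤ x := by
      rw [Ideal.mk_ker, Ideal.span_le]; exact Set.singleton_subset_iff.mpr hmem
    let q := x.map (Ideal.Quotient.mk I)
    haveI : q.IsPrime := Ideal.map_isPrime_of_surjective Ideal.Quotient.mk_surjective hle
    have hqc : q.comap (Ideal.Quotient.mk I) = x := by
      rw [Ideal.comap_map_of_surjective _ Ideal.Quotient.mk_surjective, ← RingHom.ker_eq_comap_bot,
        sup_eq_left.mpr hle]
    haveI : q.LiesOver x := ⟨hqc.symm⟩
    haveI : q.LiesOver (maximalIdeal T) := Ideal.LiesOver.trans q x (maximalIdeal T)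
    exact hno q inferInstance (Algebra.QuasiFiniteAt.of_surjectiveOnStalks_of_liesOver x
      (RingHom.surjectiveOnStalks_of_surjective Ideal.Quotient.mk_surjective) q)
  let P := A ⧸ Ideal.span ({1 - e₀} : Set A)
  haveI : Module.Finite T P := hfin
  obtain ⟨ι, _, L, _, hL, ⟨ε⟩⟩ := HenselLib.exists_pi_local (R := T) P
  let δ : ι → P := fun i => ε.symm (Pi.single i 1)
  choose d hd using fun i => Ideal.Quotient.mk_surjective (δ i)
  have hzero : e₀ * (1 - e₀) = 0 := by rw [mul_sub, mul_one, he₀.eq, sub_self]
  have hkey : ∀ a : A, Ideal.Quotient.mk (Ideal.span ({1 - e₀} : Set A)) a = 0 ↔ e₀ * a = 0 := by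
    intro a
    rw [Ideal.Quotient.eq_zero_iff_mem, Ideal.mem_span_singleton]
    constructor
    · rintro ⟨c, rfl⟩
      rw [← mul_assoc, hzero, zero_mul]
    · intro h
      exact ⟨a, by rw [sub_mul, one_mul, h, sub_zero]⟩
  obtain ⟨i, hi⟩ : ∃ i, e₀ * d i ∉ x := by
    by_contra hc
    push Not at hc
    refine he₀x ?_
    have h1 : e₀ * (1 - ∑ i, d i) = 0 := by
      rw [← hkey, map_sub, map_sum, map_one, sub_eq_zero]
      refine ε.injective ?_
      rw [map_one, map_sum]
      funext j
      simp [hd, δ, Finset.sum_apply, Finset.sum_pi_single]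
    rw [mul_sub, mul_one, sub_eq_zero] at h1
    rw [h1, Finset.mul_sum]
    exact sum_mem fun i _ => hc i
  let e := e₀ * d i
  have hee₀ : e * e₀ = e := by
    show e₀ * d i * e₀ = e₀ * d i
    rw [mul_right_comm, he₀.eq]
  have he : IsIdempotentElem e := by
    have h1 : e₀ * (d i * d i - d i) = 0 := by
      rw [← hkey, map_sub, map_mul, sub_eq_zero, hd]
      refine ε.injective ?_
      rw [map_mul, RingEquiv.apply_symm_apply, ← Pi.single_mul, mul_one]
    rw [mul_sub, sub_eq_zero] at h1
    show e₀ * d i * (e₀ * d i) = e₀ * d i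
    rw [mul_mul_mul_comm, he₀.eq, h1]
  have hle : Ideal.span ({1 - e₀} : Set A) ≤ Ideal.span ({1 - e} : Set A) := by
    rw [Ideal.span_le, Set.singleton_subset_iff, SetLike.mem_coe, Ideal.mem_span_singleton]
    exact ⟨1 - e₀, by rw [sub_mul, one_mul, mul_sub, mul_one, hee₀, sub_self, sub_zero]⟩
  refine ⟨e, he, hi, Module.Finite.of_surjective
    (Ideal.Quotient.factorₐ T hle).toLinearMap (Ideal.Quotient.factor_surjective hle), ?_⟩
  let π : A →+* L i := (Pi.evalRingHom L i).comp ((ε : P →+* ∀ j, L j).comp (Ideal.Quotient.mk _))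
  have hπ : Function.Surjective π := by
    intro l
    obtain ⟨a, ha⟩ := Ideal.Quotient.mk_surjective (ε.symm (Pi.single i l))
    refine ⟨a, ?_⟩
    show ε (Ideal.Quotient.mk _ a) i = l
    rw [ha, RingEquiv.apply_symm_apply, Pi.single_eq_same]
  have hker : RingHom.ker π = Ideal.span ({1 - e} : Set A) := by
    refine le_antisymm (fun a ha => ?_) ?_
    · have ha' : ε (Ideal.Quotient.mk _ a) i = 0 := ha
      have h1 : e₀ * (d i * a) = 0 := by
        rw [← hkey, map_mul, hd]
        refine ε.injective ?_
        rw [map_mul, RingEquiv.apply_symm_apply, map_zero]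
        funext j
        rcases eq_or_ne j i with rfl | hne
        · rw [Pi.mul_apply, ha', mul_zero, Pi.zero_apply]
        · rw [Pi.mul_apply, Pi.single_eq_of_ne hne, zero_mul, Pi.zero_apply]
      exact Ideal.mem_span_singleton.mpr ⟨a, by
        rw [sub_mul, one_mul, mul_assoc, h1, sub_zero]⟩
    · rw [Ideal.span_le, Set.singleton_subset_iff, SetLike.mem_coe, RingHom.mem_ker]
      show ε (Ideal.Quotient.mk _ (1 - e)) i = 0
      have h2 : Ideal.Quotient.mk (Ideal.span ({1 - e₀} : Set A)) e₀ = 1 := by
        rw [eq_comm, ← map_one (Ideal.Quotient.mk (Ideal.span ({1 - e₀} : Set A))),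
          Ideal.Quotient.eq]
        exact Ideal.mem_span_singleton_self _
      rw [map_sub, map_one, map_sub, map_one, Pi.sub_apply, Pi.one_apply, map_mul, h2, one_mul, hd,
        RingEquiv.apply_symm_apply, Pi.single_eq_same, sub_self]
  haveI := hL i
  exact ((Ideal.quotEquivOfEq hker.symm).trans
    (RingHom.quotientKerEquivOfSurjective hπ)).symm.isLocalRing

section

variable {C B C' A T : Type u} [CommRing C] [CommRing B] [CommRing C'] [CommRing A] [CommRing T]
  [Algebra C B] [Algebra C C'] [Algebra C' A] [Algebra B A] [Algebra C A] [Algebra C T]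
  [IsScalarTower C B A] [IsScalarTower C C' A]

/-- Over a strictly henselian flat local algebra, the invariants become isomorphic to the base near
a fixed point at which the map is étale and the group acts trivially modulo the point. -/
theorem exists_flat_retraction [Module.Finite C B] [Algebra.FiniteType C A]
    [Algebra.FinitePresentation B A]
    [HenselianLocalRing T] [IsSepClosed (ResidueField T)] [Module.Flat C T]
    {I : Type v} [Group I] [Finite I] [MulSemiringAction I B] [MulSemiringAction I A]
    (hGeq : ∀ (g : I) (b : B), algebraMap B A (g • b) = g • algebraMap B A b)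
    (hB : ∀ b : B, (∀ g : I, g • b = b) ↔ b ∈ Set.range (algebraMap C B))
    (hA : ∀ a : A, (∀ g : I, g • a = a) ↔ a ∈ Set.range (algebraMap C' A))
    (hCinj : Function.Injective (algebraMap C B)) (hC'inj : Function.Injective (algebraMap C' A))
    (x : Ideal A) [x.IsPrime] [Algebra.IsEtaleAt B x] (hin : ∀ (g : I) (a : A), g • a - a ∈ x)
    {Ω : Type u} [Field Ω] (ι₁ : ResidueField T →+* Ω) (ι₂ : A →+* Ω) (hι₂ : RingHom.ker ι₂ = x)
    (hι : ι₁.comp ((residue T).comp (algebraMap C T)) = ι₂.comp (algebraMap C A)) :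
    ∃ r : C' →+* T, r.comp (algebraMap C C') = algebraMap C T ∧ r.Flat ∧
      (maximalIdeal T).comap r = x.comap (algebraMap C' A) := by
  classical
  cases nonempty_fintype I
  let A1 := T ⊗[C] A
  let B1 := T ⊗[C] B
  let C1 := T ⊗[C] C'
  -- the group action after base change
  have hfA : ∀ (g : I) (c : C), g • algebraMap C A c = algebraMap C A c := fun g c => by
    rw [IsScalarTower.algebraMap_apply C C' A]
    exact (hA _).mpr ⟨_, rfl⟩ g
  have hfB : ∀ (g : I) (c : C), g • algebraMap C B c = algebraMap C B c := fun g c =>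
    (hB _).mpr ⟨_, rfl⟩ g
  let δA : I → A →ₐ[C] A := fun g =>
    { MulSemiringAction.toRingHom I A g with commutes' := hfA g }
  let δB : I → B →ₐ[C] B := fun g =>
    { MulSemiringAction.toRingHom I B g with commutes' := hfB g }
  let σA : I → A1 →ₐ[T] A1 := fun g => Algebra.TensorProduct.map (AlgHom.id T T) (δA g)
  let σB : I → B1 →ₐ[T] B1 := fun g => Algebra.TensorProduct.map (AlgHom.id T T) (δB g)
  have hσA : ∀ g h a, σA (g * h) a = σA g (σA h a) := by
    intro g h a
    induction a using TensorProduct.induction_on with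
    | zero => simp
    | add a b ha hb => simp only [map_add, ha, hb]
    | tmul t a =>
      show t ⊗ₜ[C] ((g * h) • a) = t ⊗ₜ[C] (g • h • a)
      rw [mul_smul]
  have hσA1 : ∀ a, σA 1 a = a := by
    intro a
    induction a using TensorProduct.induction_on with
    | zero => simp
    | add a b ha hb => simp only [map_add, ha, hb]
    | tmul t a =>
      show t ⊗ₜ[C] ((1 : I) • a) = t ⊗ₜ[C] a
      rw [one_smul]
  let β : B1 →ₐ[T] A1 := Algebra.TensorProduct.map (AlgHom.id T T) (IsScalarTower.toAlgHom C B A)
  let γ : C1 →ₐ[T] A1 := Algebra.TensorProduct.map (AlgHom.id T T) (IsScalarTower.toAlgHom C C' A)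
  have hγinj : Function.Injective γ :=
    Module.Flat.lTensor_preserves_injective_linearMap (M := T)
      (IsScalarTower.toAlgHom C C' A).toLinearMap hC'inj
  have hfixA : ∀ u : A1, (∀ g, σA g u = u) → u ∈ Set.range γ := by
    intro u hu
    obtain ⟨w, hw⟩ := tensor_fixed (T := T) (fun g => (δA g).toLinearMap)
      (IsScalarTower.toAlgHom C C' A).toLinearMap (fun a => hA a) u hu
    exact ⟨w, hw⟩
  have hfixB : ∀ u : B1, (∀ g, σB g u = u) → u ∈ Set.range (algebraMap T B1) := by
    intro u hu
    obtain ⟨w, hw⟩ := tensor_fixed (T := T) (fun g => (δB g).toLinearMap)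
      (Algebra.linearMap C B) (fun b => hB b) u hu
    refine ⟨TensorProduct.rid C T w, ?_⟩
    rw [← hw]
    clear hw
    induction w using TensorProduct.induction_on with
    | zero => simp
    | add a b ha hb => rw [map_add, map_add, map_add, ha, hb]
    | tmul t c =>
      rw [Algebra.TensorProduct.algebraMap_apply, TensorProduct.rid_tmul, LinearMap.lTensor_tmul,
        Algebra.linearMap_apply, Algebra.algebraMap_eq_smul_one c, tmul_smul, smul_tmul']
      rfl
  have hTinj : Function.Injective (algebraMap T B1) := by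
    have h := Module.Flat.lTensor_preserves_injective_linearMap (M := T) (Algebra.linearMap C B) hCinj
    intro a b hab
    refine (TensorProduct.rid C T).symm.injective (h ?_)
    simp only [TensorProduct.rid_symm_apply, LinearMap.lTensor_tmul, Algebra.linearMap_apply,
      map_one]
    exact hab
  -- the point over `x` and the closed point of `T`
  let φT : T →ₐ[C] A1 := Algebra.TensorProduct.includeLeft
  letI : Algebra C Ω := (ι₂.comp (algebraMap C A)).toAlgebra
  let f₁ : T →ₐ[C] Ω :=
    { ι₁.comp (residue T) with commutes' := fun c => RingHom.congr_fun hι c }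
  let f₂ : A →ₐ[C] Ω := { ι₂ with commutes' := fun c => rfl }
  let Φ : A1 →ₐ[C] Ω := Algebra.TensorProduct.lift f₁ f₂ fun _ _ => .all _ _
  let x1 : Ideal A1 := RingHom.ker Φ.toRingHom
  haveI hx1 : x1.IsPrime := RingHom.ker_isPrime _
  have hΦσ : ∀ g u, Φ (σA g u) = Φ u := by
    intro g u
    induction u using TensorProduct.induction_on with
    | zero => simp
    | add a b ha hb => simp only [map_add, ha, hb]
    | tmul t a =>
      show Φ (t ⊗ₜ[C] (g • a)) = Φ (t ⊗ₜ[C] a)
      rw [Algebra.TensorProduct.lift_tmul, Algebra.TensorProduct.lift_tmul]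
      congr 1
      show ι₂ (g • a) = ι₂ a
      rw [← sub_eq_zero, ← map_sub, ← RingHom.mem_ker, hι₂]
      exact hin g a
  haveI : x1.LiesOver (maximalIdeal T) := ⟨by
    ext t
    rw [Ideal.under, Ideal.mem_comap, RingHom.mem_ker, Algebra.TensorProduct.algebraMap_apply]
    show _ ↔ Φ (t ⊗ₜ[C] 1) = 0
    rw [Algebra.TensorProduct.lift_tmul, map_one, mul_one]
    show _ ↔ ι₁ (residue T t) = 0
    rw [map_eq_zero_iff _ ι₁.injective, residue_eq_zero_iff]⟩
  have hx1c : x = x1.comap (Algebra.TensorProduct.includeRight : A →ₐ[C] A1).toRingHom := by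
    ext a
    rw [Ideal.mem_comap, RingHom.mem_ker]
    show _ ↔ Φ ((1 : T) ⊗ₜ[C] a) = 0
    rw [Algebra.TensorProduct.lift_tmul, map_one, one_mul, ← hι₂]
    rfl
  -- an étale neighbourhood
  obtain ⟨h, hhx, het⟩ := Algebra.exists_etale_of_isEtaleAt (R := B) x
  haveI : Algebra.Etale B (Localization.Away h) := het
  haveI : Algebra.QuasiFinite C (Localization.Away h) := Algebra.QuasiFinite.trans C B (Localization.Away h)
  haveI : Algebra.QuasiFiniteAt C x := by
    let ψ₀ : Localization.Away h →ₐ[A] Localization.AtPrime x :=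
      IsLocalization.liftAlgHom (M := Submonoid.powers h) (f := Algebra.ofId A (Localization.AtPrime x))
        (by
          rintro ⟨_, m, rfl⟩
          rw [map_pow]
          exact (IsLocalization.map_units (Localization.AtPrime x)
            (⟨h, hhx⟩ : x.primeCompl)).pow m)
    refine Algebra.QuasiFinite.of_forall_exists_mul_mem_range (ψ₀.restrictScalars C) fun z => ?_
    obtain ⟨a, ⟨s, hs⟩, rfl⟩ := IsLocalization.exists_mk'_eq x.primeCompl z
    refine ⟨algebraMap A _ s, ?_, algebraMap A _ a, ?_⟩
    · show IsUnit (ψ₀ (algebraMap A _ s))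
      rw [ψ₀.commutes]
      exact IsLocalization.map_units (Localization.AtPrime x) (⟨s, hs⟩ : x.primeCompl)
    · show ψ₀ (algebraMap A _ a) = _ * ψ₀ (algebraMap A _ s)
      rw [ψ₀.commutes, ψ₀.commutes, IsLocalization.mk'_spec_mk]
  haveI : Algebra.QuasiFiniteAt T x1 := Algebra.QuasiFiniteAt.baseChange x x1 hx1c
  obtain ⟨e, he, hex1, hLfin, hLloc⟩ := exists_idem_local (T := T) x1
  let L := A1 ⧸ Ideal.span ({1 - e} : Set A1)
  haveI : Module.Finite T L := hLfin
  haveI : IsLocalRing L := hLloc
  let π : A1 →ₐ[T] L := Ideal.Quotient.mkₐ T _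
  have hπe : π e = 1 := by
    rw [eq_comm, ← map_one π]
    exact Ideal.Quotient.eq.mpr (Ideal.mem_span_singleton_self _)
  have hπker : ∀ a, π a = 0 ↔ e * a = 0 := by
    intro a
    rw [show π a = Ideal.Quotient.mk _ a from rfl, Ideal.Quotient.eq_zero_iff_mem,
      Ideal.mem_span_singleton]
    constructor
    · rintro ⟨c, rfl⟩
      rw [← mul_assoc, mul_sub, mul_one, he.eq, sub_self, zero_mul]
    · intro h
      exact ⟨a, by rw [sub_mul, one_mul, h, sub_zero]⟩
  -- the idempotent is invariant
  have hidem : ∀ g, e * σA g e = e := by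
    intro g
    have h1 : π (σA g e) = 1 := by
      refine idem_eq_one ((he.map (σA g)).map π) fun h0 => ?_
      rw [hπker] at h0
      have : e * σA g e ∈ x1 := by rw [h0]; exact x1.zero_mem
      rcases hx1.mem_or_mem this with h | h
      · exact hex1 h
      · refine hex1 ?_
        rw [RingHom.mem_ker] at h ⊢
        show Φ e = 0
        rw [← hΦσ g]; exact h
    have h2 : e * (σA g e - 1) = 0 := by rw [← hπker, map_sub, h1, map_one, sub_self]
    rwa [mul_sub, mul_one, sub_eq_zero] at h2
  have hσe : ∀ g, σA g e = e := by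
    intro g
    have h1 := congrArg (σA g) (hidem g⁻¹)
    rw [map_mul, ← hσA, mul_inv_cancel, hσA1] at h1
    rw [← h1, mul_comm, hidem]
  -- comparison with `B1`
  letI : Algebra B1 A1 := β.toRingHom.toAlgebra
  haveI : IsScalarTower T B1 A1 := IsScalarTower.of_algebraMap_eq fun t => (β.commutes t).symm
  haveI : IsScalarTower T B1 L := inferInstance
  haveI : Module.Finite B1 L := Module.Finite.of_restrictScalars_finite T B1 L
  have hunit : ∀ a ∈ x1, ¬ IsUnit (π a) := by
    intro a ha hu
    obtain ⟨u, hu⟩ := hu.exists_left_inv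
    obtain ⟨b, rfl⟩ := Ideal.Quotient.mk_surjective u
    have h2 : π (b * a - 1) = 0 := by
      rw [map_sub, map_mul, map_one, sub_eq_zero]; exact hu
    rw [hπker, mul_sub, mul_one, sub_eq_zero] at h2
    exact hex1 (h2 ▸ x1.mul_mem_left _ (x1.mul_mem_left _ ha))
  -- `B1` is local
  let ρ : I →* (B1 →+* B1) :=
    { toFun := fun g => (σB g).toRingHom
      map_one' := by
        refine RingHom.ext fun a => ?_
        induction a using TensorProduct.induction_on with
        | zero => simp
        | add a b ha hb => simp only [map_add, ha, hb]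
        | tmul t a =>
          show t ⊗ₜ[C] ((1 : I) • a) = t ⊗ₜ[C] a
          rw [one_smul]
      map_mul' := fun g h => by
        refine RingHom.ext fun a => ?_
        induction a using TensorProduct.induction_on with
        | zero => simp
        | add a b ha hb => simp only [map_add, ha, hb]
        | tmul t a =>
          show t ⊗ₜ[C] ((g * h) • a) = t ⊗ₜ[C] (g • h • a)
          rw [mul_smul] }
  letI : MulSemiringAction I B1 := MulSemiringAction.compHom B1 ρ
  haveI : SMulCommClass I T B1 := ⟨fun g t b => map_smul (σB g) t b⟩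
  haveI : Algebra.IsInvariant T B1 I := ⟨fun b hb => hfixB b hb⟩
  haveI : Module.Finite T B1 := inferInstance
  let y1 : Ideal B1 := x1.comap β.toRingHom
  haveI : y1.IsPrime := Ideal.comap_isPrime _ _
  have hy1T : y1.under T = maximalIdeal T := by
    rw [(inferInstance : x1.LiesOver (maximalIdeal T)).over, Ideal.under, Ideal.under,
      Ideal.comap_comap]
    congr 1
    exact RingHom.ext β.commutes
  have hy1fix : ∀ g : I, g • y1 = y1 := by
    intro g
    have hb : ∀ (g : I) b, Φ (β (g • b)) = Φ (β b) := by
      intro g b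
      show Φ (β (σB g b)) = _
      rw [show β (σB g b) = σA g (β b) from ?_, hΦσ]
      induction b using TensorProduct.induction_on with
      | zero => simp
      | add a b ha hb => simp only [map_add, ha, hb]
      | tmul t b =>
        show t ⊗ₜ[C] algebraMap B A (g • b) = t ⊗ₜ[C] (g • algebraMap B A b)
        rw [hGeq]
    ext b
    rw [Ideal.mem_pointwise_smul_iff_inv_smul_mem, Ideal.mem_comap, Ideal.mem_comap, RingHom.mem_ker,
      RingHom.mem_ker]
    show Φ (β (g⁻¹ • b)) = 0 ↔ Φ (β b) = 0
    rw [hb]
  have hy1max : y1.IsMaximal :=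
    Ideal.isMaximal_of_isIntegral_of_isMaximal_comap (R := T) y1
      (by show (y1.under T).IsMaximal; rw [hy1T]; infer_instance)
  haveI : IsLocalRing B1 := by
    refine IsLocalRing.of_unique_max_ideal ⟨y1, hy1max, fun P hP => ?_⟩
    haveI : P.IsPrime := hP.isPrime
    have hPT : P.under T = y1.under T := by
      rw [hy1T]
      exact IsLocalRing.eq_maximalIdeal (Ideal.isMaximal_comap_of_isIntegral_of_isMaximal P)
    obtain ⟨g, hg⟩ := Algebra.IsInvariant.exists_smul_of_under_eq T B1 I y1 P hPT.symm
    rw [hg, hy1fix]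
  have hy1 : maximalIdeal B1 = y1 := (IsLocalRing.eq_maximalIdeal hy1max).symm
  haveI : IsLocalHom (algebraMap B1 L) := by
    refine ⟨fun u hu => ?_⟩
    by_contra hnu
    have hmem : u ∈ maximalIdeal B1 := (mem_maximalIdeal u).mpr hnu
    rw [hy1] at hmem
    exact hunit (β u) hmem hu
  -- `L` is flat and unramified over `B1`
  let Ah := Localization.Away h
  let S := T ⊗[C] Ah
  let κ : A1 →ₐ[T] S := Algebra.TensorProduct.map (AlgHom.id T T) (IsScalarTower.toAlgHom C A Ah)
  letI algB1S : Algebra B1 S := (κ.comp β).toRingHom.toAlgebra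
  letI : Algebra B B1 := Algebra.TensorProduct.rightAlgebra
  letI : Algebra Ah S := Algebra.TensorProduct.rightAlgebra
  letI : Algebra B S := ((algebraMap Ah S).comp (algebraMap B Ah)).toAlgebra
  haveI : IsScalarTower B Ah S := IsScalarTower.of_algebraMap_eq fun _ => rfl
  haveI : IsScalarTower B B1 S := IsScalarTower.of_algebraMap_eq fun b => by
    show (1 : T) ⊗ₜ[C] algebraMap B Ah b = (1 : T) ⊗ₜ[C] algebraMap A Ah (algebraMap B A b)
    rw [← IsScalarTower.algebraMap_apply]
  haveI : IsScalarTower T B1 S := IsScalarTower.of_algebraMap_eq fun t => ((κ.comp β).commutes t).symm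
  haveI : IsScalarTower C B1 S := IsScalarTower.of_algebraMap_eq fun c => by
    rw [IsScalarTower.algebraMap_apply C T S, IsScalarTower.algebraMap_apply C T B1,
      ← IsScalarTower.algebraMap_apply T B1 S]
  haveI : IsScalarTower C Ah S := inferInstance
  haveI : Algebra.IsPushout C B T B1 := Algebra.IsPushout.symm inferInstance
  haveI : Algebra.IsPushout C Ah T S := Algebra.IsPushout.symm inferInstance
  haveI : Algebra.IsPushout B Ah B1 S :=
    (Algebra.IsPushout.comp_iff C B T B1).mp inferInstance
  haveI : Algebra.IsPushout B B1 Ah S := Algebra.IsPushout.symm inferInstance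
  haveI : Module.Flat B1 S :=
    Module.Flat.of_linearEquiv (Algebra.IsPushout.equiv B B1 Ah S).toLinearEquiv.symm
  haveI : Algebra.FormallyUnramified B1 S :=
    Algebra.FormallyUnramified.of_equiv (Algebra.IsPushout.equiv B B1 Ah S)
  have hhu : IsUnit (π ((1 : T) ⊗ₜ[C] h)) := by
    by_contra hnu
    let p := x1.map π.toRingHom
    have hle : RingHom.ker π.toRingHom ≤ x1 := fun a ha => by
      have h1 : e * a = 0 := (hπker a).mp ha
      exact (hx1.mem_or_mem (h1 ▸ x1.zero_mem)).resolve_left hex1
    haveI : p.IsPrime := Ideal.map_isPrime_of_surjective Ideal.Quotient.mk_surjective hle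
    have hpc : p.comap π.toRingHom = x1 := by
      rw [Ideal.comap_map_of_surjective π.toRingHom Ideal.Quotient.mk_surjective,
        ← RingHom.ker_eq_comap_bot, sup_eq_left.mpr hle]
    have hpT : p.under T = maximalIdeal T := by
      rw [(inferInstance : x1.LiesOver (maximalIdeal T)).over, ← hpc, Ideal.under, Ideal.under,
        Ideal.comap_comap]
      rfl
    have hpm : p.IsMaximal :=
      Ideal.isMaximal_of_isIntegral_of_isMaximal_comap (R := T) p
        (by show (p.under T).IsMaximal; rw [hpT]; infer_instance)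
    have h2 : π ((1 : T) ⊗ₜ[C] h) ∈ p :=
      (IsLocalRing.eq_maximalIdeal hpm) ▸ (mem_maximalIdeal _).mpr hnu
    have h3 : (1 : T) ⊗ₜ[C] h ∈ p.comap π.toRingHom := h2
    rw [hpc] at h3
    exact hhx (hx1c ▸ h3)
  let jA : A →ₐ[C] L :=
    (π.restrictScalars C).comp (Algebra.TensorProduct.includeRight : A →ₐ[C] A1)
  let jh : Ah →ₐ[C] L :=
    { (IsLocalization.lift (M := Submonoid.powers h) (g := jA.toRingHom) (S := Ah) (by
        rintro ⟨_, m, rfl⟩
        rw [map_pow]
        exact hhu.pow m)) with
      commutes' := fun c => by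
        show IsLocalization.lift _ (algebraMap C Ah c) = _
        rw [IsScalarTower.algebraMap_apply C A Ah, IsLocalization.lift_eq]
        exact jA.commutes c }
  have hjh : ∀ a, jh (algebraMap A Ah a) = jA a := fun a => IsLocalization.lift_eq _ a
  let ψ : S →ₐ[T] L := Algebra.TensorProduct.lift (Algebra.ofId T L) jh fun _ _ => .all _ _
  have hψκ : ∀ a, ψ (κ a) = π a := by
    intro a
    induction a using TensorProduct.induction_on with
    | zero => simp
    | add a b ha hb => simp only [map_add, ha, hb]
    | tmul t a =>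
      show ψ (t ⊗ₜ[C] algebraMap A Ah a) = _
      rw [Algebra.TensorProduct.lift_tmul, hjh]
      show algebraMap T L t * π ((1 : T) ⊗ₜ[C] a) = π (t ⊗ₜ[C] a)
      rw [← π.commutes, ← map_mul, Algebra.TensorProduct.algebraMap_apply,
        Algebra.TensorProduct.tmul_mul_tmul, mul_one, one_mul]
      rfl
  let ψ' : S →ₐ[B1] L := { ψ.toRingHom with commutes' := fun b => hψκ (β b) }
  have hψsurj : Function.Surjective ψ' := fun l => by
    obtain ⟨a, rfl⟩ := Ideal.Quotient.mk_surjective l
    exact ⟨κ a, hψκ a⟩
  haveI : Algebra.FormallyUnramified B1 L := Algebra.FormallyUnramified.of_surjective ψ' hψsurj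
  let s₀ : L → A1 := Function.surjInv Ideal.Quotient.mk_surjective
  have hs₀ : ∀ l, π (s₀ l) = l := Function.surjInv_eq Ideal.Quotient.mk_surjective
  have hwd : ∀ a a', π a = π a' → κ e * κ a = κ e * κ a' := by
    intro a a' haa
    have h1 : e * (a - a') = 0 := by rw [← hπker, map_sub, haa, sub_self]
    rw [← sub_eq_zero, ← mul_sub, ← map_sub, ← map_mul, h1, map_zero]
  let sec : L →ₗ[B1] S :=
    { toFun := fun l => κ e * κ (s₀ l)
      map_add' := fun l l' => by
        rw [← mul_add, ← map_add]
        exact hwd _ _ (by rw [map_add, hs₀, hs₀, hs₀])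
      map_smul' := fun b l => by
        simp only [RingHom.id_apply, Algebra.smul_def]
        show _ = κ (β b) * _
        rw [show κ (β b) * (κ e * κ (s₀ l)) = κ e * κ (β b * s₀ l) by rw [map_mul]; ring]
        refine hwd _ _ ?_
        rw [map_mul, hs₀, hs₀]
        rfl }
  haveI : Module.Flat B1 L := Module.Flat.of_retract sec ψ'.toLinearMap (LinearMap.ext fun l => by
    show ψ (κ e * κ (s₀ l)) = l
    rw [map_mul, hψκ, hψκ, hπe, one_mul, hs₀])
  -- `B1 → L` is bijective
  haveI : Algebra.IsAlgebraic (ResidueField T) (ResidueField L) :=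
    Algebra.IsAlgebraic.of_finite (ResidueField T) (ResidueField L)
  haveI : IsLocalHom (algebraMap T L) := by
    refine ⟨fun t ht => ?_⟩
    by_contra hnu
    refine hunit (algebraMap T A1 t) ?_ ht
    have h1 : t ∈ x1.under T := by
      rw [← (inferInstance : x1.LiesOver (maximalIdeal T)).over]
      exact (mem_maximalIdeal t).mpr hnu
    exact h1
  haveI : IsLocalHom (algebraMap T B1) := by
    refine ⟨fun t ht => ?_⟩
    exact isUnit_of_map_unit (algebraMap T L) t (by
      rw [IsScalarTower.algebraMap_apply T B1 L]; exact ht.map _)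
  haveI : IsScalarTower (ResidueField T) (ResidueField B1) (ResidueField L) :=
    IsScalarTower.of_algebraMap_eq fun z => by
      obtain ⟨t, rfl⟩ := IsLocalRing.residue_surjective z
      show IsLocalRing.residue L (algebraMap T L t) = IsLocalRing.residue L (algebraMap B1 L (algebraMap T B1 t))
      rw [← IsScalarTower.algebraMap_apply]
  have hres : Function.Surjective (algebraMap (ResidueField B1) (ResidueField L)) :=
    surjective_of_isSepClosed (ResidueField T) _ _
  have hmax : (maximalIdeal B1).map (algebraMap B1 L) = maximalIdeal L :=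
    Algebra.FormallyUnramified.map_maximalIdeal
  have hbij : Function.Bijective (algebraMap B1 L) := by
    haveI : Module.FaithfullyFlat B1 L := Module.FaithfullyFlat.of_flat_of_isLocalHom
    refine ⟨FaithfulSMul.algebraMap_injective B1 L, ?_⟩
    suffices (⊤ : Submodule B1 L) ≤ LinearMap.range (Algebra.linearMap B1 L) by
      intro l; exact this (Submodule.mem_top (x := l))
    refine Submodule.le_of_le_smul_of_le_jacobson_bot Module.Finite.fg_top
      (IsLocalRing.maximalIdeal_le_jacobson ⊥) fun l _ => ?_
    obtain ⟨z, hz⟩ := hres (IsLocalRing.residue L l)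
    obtain ⟨b, rfl⟩ := IsLocalRing.residue_surjective z
    have h1 : l - algebraMap B1 L b ∈ (maximalIdeal B1).map (algebraMap B1 L) := by
      rw [hmax, ← IsLocalRing.residue_eq_zero_iff, map_sub, ← hz, sub_eq_zero]
      rfl
    rw [show l = algebraMap B1 L b + (l - algebraMap B1 L b) by ring]
    refine Submodule.add_mem_sup ⟨b, rfl⟩ ?_
    rw [Ideal.smul_top_eq_map]
    exact h1
  -- invariants
  have hmem : ∀ c : C1, ∃ t : T, π (γ c) = algebraMap T L t := by
    intro c
    obtain ⟨b, hb⟩ := hbij.2 (π (γ c))
    have hfix : ∀ g, σB g b = b := by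
      intro g
      refine hbij.1 ?_
      show π (β (σB g b)) = π (β b)
      have h1 : β (σB g b) = σA g (β b) := by
        clear hb
        induction b using TensorProduct.induction_on with
        | zero => simp
        | add a b ha hb => simp only [map_add, ha, hb]
        | tmul t b =>
          show t ⊗ₜ[C] algebraMap B A (g • b) = t ⊗ₜ[C] (g • algebraMap B A b)
          rw [hGeq]
      have h2 : σA g (γ c) = γ c := by
        clear hb
        induction c using TensorProduct.induction_on with
        | zero => simp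
        | add a b ha hb => simp only [map_add, ha, hb]
        | tmul t c =>
          show t ⊗ₜ[C] (g • algebraMap C' A c) = t ⊗ₜ[C] algebraMap C' A c
          rw [(hA _).mpr ⟨c, rfl⟩ g]
      have h3 : e * (β b - γ c) = 0 := by
        rw [← hπker, map_sub, sub_eq_zero]; exact hb
      rw [h1, ← sub_eq_zero, ← map_sub, hπker]
      have h4 := congrArg (σA g) h3
      rw [map_mul, map_sub, hσe, h2, map_zero] at h4
      rw [mul_sub, sub_eq_zero] at h4 h3 ⊢
      rw [h4, h3]
    obtain ⟨t, ht⟩ := hfixB b hfix
    exact ⟨t, by rw [← hb, ← ht, ← IsScalarTower.algebraMap_apply]⟩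
  choose rT hrT using hmem
  have hTL : Function.Injective (algebraMap T L) := by
    rw [IsScalarTower.algebraMap_eq T B1 L]
    exact hbij.1.comp hTinj
  let r1 : C1 →ₐ[T] T :=
    { toFun := rT
      map_one' := hTL (by rw [← hrT, map_one, map_one, map_one])
      map_mul' := fun a b => hTL (by rw [← hrT, map_mul, map_mul, map_mul, hrT, hrT])
      map_zero' := hTL (by rw [← hrT, map_zero, map_zero, map_zero])
      map_add' := fun a b => hTL (by rw [← hrT, map_add, map_add, map_add, hrT, hrT])
      commutes' := fun t => hTL (by rw [← hrT, γ.commutes, π.commutes]; rfl) }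
  obtain ⟨e1, he1⟩ := hfixA e hσe
  haveI : IsLocalization.Away e1 (C1 ⧸ Ideal.span ({1 - e1} : Set C1)) :=
    IsLocalization.away_of_isIdempotentElem
      (hγinj (by rw [map_mul, he1, he.eq] : γ (e1 * e1) = γ e1)) Ideal.mk_ker Ideal.Quotient.mk_surjective
  have hker : RingHom.ker r1.toRingHom = Ideal.span ({1 - e1} : Set C1) := by
    ext c
    rw [RingHom.mem_ker, Ideal.mem_span_singleton]
    constructor
    · intro hc
      refine ⟨c, hγinj ?_⟩
      have h1 : e * γ c = 0 := by
        rw [← hπker, hrT c, show rT c = 0 from hc, map_zero]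
      rw [map_mul, map_sub, map_one, he1, sub_mul, one_mul, h1, sub_zero]
    · rintro ⟨d, rfl⟩
      show rT _ = 0
      refine hTL ?_
      rw [map_zero, ← hrT, map_mul, map_mul, map_sub, map_one, he1, map_sub, map_one, hπe, sub_self,
        zero_mul]
  let r : C' →+* T :=
    r1.toRingHom.comp (Algebra.TensorProduct.includeRight : C' →ₐ[C] C1).toRingHom
  refine ⟨r, ?_, ?_, ?_⟩
  · refine RingHom.ext fun c => ?_
    show r1 ((1 : T) ⊗ₜ[C] algebraMap C C' c) = algebraMap C T c
    rw [show (1 : T) ⊗ₜ[C] algebraMap C C' c = algebraMap T C1 (algebraMap C T c) by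
      rw [Algebra.TensorProduct.algebraMap_apply, Algebra.algebraMap_eq_smul_one c,
        Algebra.algebraMap_eq_smul_one c, tmul_smul, smul_tmul']
      rfl, r1.commutes]
    rfl
  · refine RingHom.Flat.comp ?_ ?_
    · letI : Algebra C' C1 := Algebra.TensorProduct.rightAlgebra
      haveI : Algebra.IsPushout C C' T C1 := Algebra.IsPushout.symm inferInstance
      haveI : Module.Flat C' C1 :=
        Module.Flat.of_linearEquiv (Algebra.IsPushout.equiv C C' T C1).toLinearEquiv.symm
      exact this
    · have h1 : (algebraMap C1 (C1 ⧸ Ideal.span ({1 - e1} : Set C1))).Flat :=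
        RingHom.flat_algebraMap_iff.mpr (IsLocalization.flat _ (Submonoid.powers e1))
      have hsurj : Function.Surjective r1 := fun t => ⟨algebraMap T C1 t, r1.commutes t⟩
      let ee : (C1 ⧸ Ideal.span ({1 - e1} : Set C1)) ≃+* T :=
        (Ideal.quotEquivOfEq hker.symm).trans (RingHom.quotientKerEquivOfSurjective hsurj)
      have h2 : r1.toRingHom = ee.toRingHom.comp (algebraMap C1 (C1 ⧸ Ideal.span ({1 - e1} : Set C1))) :=
        RingHom.ext fun c => rfl
      rw [h2]
      exact RingHom.Flat.comp h1 (RingHom.Flat.of_bijective ee.bijective)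
  · ext c
    have hrc := hrT ((1 : T) ⊗ₜ[C] c)
    have hgc : γ ((1 : T) ⊗ₜ[C] c) = (1 : T) ⊗ₜ[C] algebraMap C' A c := rfl
    show rT ((1 : T) ⊗ₜ[C] c) ∈ maximalIdeal T ↔ algebraMap C' A c ∈ x
    rw [hx1c, Ideal.mem_comap]
    show _ ↔ (1 : T) ⊗ₜ[C] algebraMap C' A c ∈ x1
    rw [← hgc]
    constructor
    · intro hm
      have h1 : algebraMap T A1 (rT ((1 : T) ⊗ₜ[C] c)) ∈ x1 := by
        have h2 : rT ((1 : T) ⊗ₜ[C] c) ∈ x1.under T := by
          rw [← (inferInstance : x1.LiesOver (maximalIdeal T)).over]; exact hm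
        exact h2
      have h3 : π (γ ((1 : T) ⊗ₜ[C] c) - algebraMap T A1 (rT ((1 : T) ⊗ₜ[C] c))) = 0 := by
        rw [map_sub, π.commutes, hrc, sub_self]
      rw [hπker] at h3
      have h4 := (hx1.mem_or_mem (h3 ▸ x1.zero_mem)).resolve_left hex1
      simpa using add_mem h4 h1
    · intro hm
      rw [mem_maximalIdeal]
      intro hu
      exact hunit _ hm (hrc ▸ hu.map (algebraMap T L))

end

end Groth.Agent.EquivEtInvLib
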