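import Mathlib
import Groth.Agent.EquivEtInvLib.Strict
import Groth.Agent.HenselLib.HenselizationExists
import Groth.Agent.GeomRedFibLib.Cancel
import Groth.Agent.EtLocalLib.Standard
import Groth.Agent.InertiaEtaleLib.Interp
import Groth.Agent.InertiaEtaleLib.Element

/-!
Invariants of an equivariant map which is étale at a point with the same inertia group below are
étale at the corresponding point.
-/

set_option autoImplicit false
set_option maxHeartbeats 1000000
set_option synthInstance.maxHeartbeats 200000

universe u v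

open IsLocalRing

namespace Groth.Agent.EquivEtInvLib

/-- Étaleness at a point descends from a flat local algebra which is flat, unramified and separable
over the base. -/
theorem isEtaleAt_of_flat_local {C C' T : Type u} [CommRing C] [IsNoetherianRing C] [CommRing C']
    [Algebra C C'] [Algebra.FiniteType C C'] [CommRing T] [IsLocalRing T] [Algebra C T]
    [Algebra C' T] [IsScalarTower C C' T] [Module.Flat C T] [Module.Flat C' T]
    (w : Ideal C') [w.IsPrime] (hw : (maximalIdeal T).comap (algebraMap C' T) = w)
    (z : Ideal C) [z.IsPrime] [w.LiesOver z]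
    [Algebra (Localization.AtPrime z) T] [IsScalarTower C (Localization.AtPrime z) T]
    [IsLocalHom (algebraMap (Localization.AtPrime z) T)]
    (hmax : z.map (algebraMap C T) = maximalIdeal T)
    [Algebra.IsSeparable (ResidueField (Localization.AtPrime z)) (ResidueField T)] :
    Algebra.IsEtaleAt C w := by
  haveI : Algebra.FinitePresentation C C' := Algebra.FinitePresentation.of_finiteType.mp ‹_›
  let Cw := Localization.AtPrime w
  let Cz := Localization.AtPrime z
  letI algwz : Algebra Cz Cw := Localization.AtPrime.algebraOfLiesOver z w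
  have hu : ∀ s : w.primeCompl, IsUnit (algebraMap C' T s) := fun s => by
    rw [← notMem_maximalIdeal]
    intro h
    have h' : (s : C') ∈ (maximalIdeal T).comap (algebraMap C' T) := h
    rw [hw] at h'
    exact s.2 h'
  let ρ : Cw →+* T := IsLocalization.lift hu
  letI : Algebra Cw T := ρ.toAlgebra
  haveI : IsScalarTower C' Cw T :=
    IsScalarTower.of_algebraMap_eq fun a => (IsLocalization.lift_eq hu a).symm
  haveI : IsScalarTower C Cw T := IsScalarTower.of_algebraMap_eq fun c => by
    rw [IsScalarTower.algebraMap_apply C C' Cw, ← IsScalarTower.algebraMap_apply C' Cw T,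
      ← IsScalarTower.algebraMap_apply C C' T]
  haveI : IsLocalHom (algebraMap Cw T) := by
    refine ⟨fun a ha => ?_⟩
    obtain ⟨a, s, rfl⟩ := IsLocalization.exists_mk'_eq w.primeCompl a
    rw [IsLocalization.AtPrime.isUnit_mk'_iff Cw w]
    intro haw
    rw [← hw] at haw
    have h1 : algebraMap C' T a ∈ maximalIdeal T := haw
    refine (notMem_maximalIdeal.mpr (?_ : IsUnit (algebraMap C' T a))) h1
    have h2 : algebraMap Cw T (IsLocalization.mk' Cw a s) * algebraMap C' T (s : C') =
        algebraMap C' T a := by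
      rw [IsScalarTower.algebraMap_apply C' Cw T (s : C'), ← map_mul, IsLocalization.mk'_spec,
        ← IsScalarTower.algebraMap_apply]
    rw [← h2]
    exact ha.mul (hu s)
  haveI : Module.Flat Cw T := (Module.flat_iff_of_isLocalization Cw w.primeCompl T).mpr inferInstance
  haveI : Module.FaithfullyFlat Cw T := Module.FaithfullyFlat.of_flat_of_isLocalHom
  haveI : Module.Flat C Cw := GeomRedFibLib.flat_of_comp C Cw T
  haveI : IsScalarTower Cz Cw T := by
    refine IsScalarTower.of_algebraMap_eq' (IsLocalization.ringHom_ext z.primeCompl ?_)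
    rw [RingHom.comp_assoc, ← IsScalarTower.algebraMap_eq, ← IsScalarTower.algebraMap_eq,
      ← IsScalarTower.algebraMap_eq]
  haveI : IsScalarTower (ResidueField Cz) (ResidueField Cw) (ResidueField T) :=
    IsScalarTower.of_algebraMap_eq fun a => by
      obtain ⟨c, rfl⟩ := IsLocalRing.residue_surjective a
      show residue T (algebraMap Cz T c) = residue T (algebraMap Cw T (algebraMap Cz Cw c))
      rw [← IsScalarTower.algebraMap_apply]
  haveI : Algebra.IsSeparable (ResidueField Cz) (ResidueField Cw) :=
    Algebra.isSeparable_tower_bot_of_isSeparable _ _ (ResidueField T)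
  have hmap : z.map (algebraMap C Cw) = maximalIdeal Cw := by
    rw [← Ideal.comap_map_eq_self_of_faithfullyFlat (B := T) (z.map (algebraMap C Cw)),
      Ideal.map_map, ← IsScalarTower.algebraMap_eq, hmax]
    exact ((IsLocalRing.local_hom_TFAE (algebraMap Cw T)).out 0 4).mp ‹IsLocalHom (algebraMap Cw T)›
  haveI : Algebra.IsUnramifiedAt C w :=
    (Algebra.isUnramifiedAt_iff_map_eq C z w).mpr ⟨inferInstanceAs
      (Algebra.IsSeparable (ResidueField Cz) (ResidueField Cw)), hmap⟩
  exact EtLocalLib.isEtaleAt_of_flat w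

section

variable {C B C' A : Type u} [CommRing C] [CommRing B] [CommRing C'] [CommRing A]
  [Algebra C B] [Algebra C C'] [Algebra C' A] [Algebra B A] [Algebra C A]
  [IsScalarTower C B A] [IsScalarTower C C' A]

/-- The case of a group acting trivially modulo the point. -/
theorem isEtaleAt_invariants_of_trivial [IsNoetherianRing C] [Module.Finite C B]
    [Algebra.FiniteType C A] [Algebra.FiniteType C C']
    {I : Type v} [Group I] [Finite I] [MulSemiringAction I B] [MulSemiringAction I A]
    (hGeq : ∀ (g : I) (b : B), algebraMap B A (g • b) = g • algebraMap B A b)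
    (hB : ∀ b : B, (∀ g : I, g • b = b) ↔ b ∈ Set.range (algebraMap C B))
    (hA : ∀ a : A, (∀ g : I, g • a = a) ↔ a ∈ Set.range (algebraMap C' A))
    (hCinj : Function.Injective (algebraMap C B)) (hC'inj : Function.Injective (algebraMap C' A))
    (x : Ideal A) [x.IsPrime] [Algebra.IsEtaleAt B x] (hin : ∀ (g : I) (a : A), g • a - a ∈ x) :
    Algebra.IsEtaleAt C (x.comap (algebraMap C' A)) := by
  haveI : IsNoetherianRing B := IsNoetherianRing.of_finite C B
  haveI : Algebra.FiniteType B A := Algebra.FiniteType.of_restrictScalars_finiteType C B A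
  haveI : Algebra.FinitePresentation B A := Algebra.FinitePresentation.of_finiteType.mp ‹_›
  let w := x.comap (algebraMap C' A)
  let z := w.comap (algebraMap C C')
  haveI : w.LiesOver z := ⟨rfl⟩
  haveI : x.LiesOver z := ⟨by
    show z = x.comap (algebraMap C A)
    rw [IsScalarTower.algebraMap_eq C C' A, ← Ideal.comap_comap]⟩
  let Cz := Localization.AtPrime z
  let T := HenselLib.SH Cz
  letI : Algebra C T := ((algebraMap Cz T).comp (algebraMap C Cz)).toAlgebra
  haveI : IsScalarTower C Cz T := IsScalarTower.of_algebraMap_eq fun _ => rfl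
  haveI : Module.Flat Cz T := HenselLib.flat_hens _
  haveI : Module.Flat C T := Module.Flat.trans C Cz T
  haveI hsc : IsSepClosure (ResidueField Cz) (ResidueField T) := HenselLib.isSepClosure_SH Cz
  haveI : IsSepClosed (ResidueField T) := hsc.sep_closed
  haveI : Algebra.IsSeparable (ResidueField Cz) (ResidueField T) := hsc.separable
  letI : Algebra Cz (Localization.AtPrime x) := Localization.AtPrime.algebraOfLiesOver z x
  let Ω := AlgebraicClosure (ResidueField (Localization.AtPrime x))
  let ι₂ : A →+* Ω :=
    (algebraMap (ResidueField (Localization.AtPrime x)) Ω).comp (algebraMap A x.ResidueField)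
  have hι₂ : RingHom.ker ι₂ = x := by
    rw [RingHom.ker_comp_of_injective _ (algebraMap (ResidueField (Localization.AtPrime x)) Ω).injective]
    exact Ideal.ker_algebraMap_residueField x
  let j : ResidueField T →ₐ[ResidueField Cz] Ω := IsAlgClosed.lift
  have hι : (j : ResidueField T →+* Ω).comp ((residue T).comp (algebraMap C T)) =
      ι₂.comp (algebraMap C A) := by
    refine RingHom.ext fun c => ?_
    show j (algebraMap (ResidueField Cz) (ResidueField T) (residue Cz (algebraMap C Cz c))) = _
    rw [j.commutes, IsScalarTower.algebraMap_apply (ResidueField Cz)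
      (ResidueField (Localization.AtPrime x)) Ω]
    refine congrArg (algebraMap (ResidueField (Localization.AtPrime x)) Ω) ?_
    show residue (Localization.AtPrime x) (algebraMap Cz (Localization.AtPrime x) (algebraMap C Cz c)) = _
    rw [← IsScalarTower.algebraMap_apply C Cz (Localization.AtPrime x),
      IsScalarTower.algebraMap_apply C A (Localization.AtPrime x)]
    rfl
  obtain ⟨r, hr1, hr2, hr3⟩ := exists_flat_retraction (T := T) hGeq hB hA hCinj hC'inj x hin
    (j : ResidueField T →+* Ω) ι₂ hι₂ hι
  letI : Algebra C' T := r.toAlgebra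
  haveI : IsScalarTower C C' T := IsScalarTower.of_algebraMap_eq fun c => (RingHom.congr_fun hr1 c).symm
  haveI : Module.Flat C' T := hr2
  refine isEtaleAt_of_flat_local (T := T) w hr3 z ?_
  show z.map ((algebraMap Cz T).comp (algebraMap C Cz)) = _
  rw [← Ideal.map_map, Localization.AtPrime.map_eq_maximalIdeal]
  exact HenselLib.map_maximalIdeal_hens _

end

/-- Invariants of a finite group are étale below invariants of the inertia group. -/
theorem isEtaleAt_inertiaInvariants {C₀ C R : Type u} [CommRing C₀] [CommRing C] [CommRing R]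
    [Algebra C₀ C] [Algebra C R] [Algebra C₀ R] [IsScalarTower C₀ C R]
    [Algebra.FinitePresentation C₀ C]
    {G : Type u} [Group G] [Finite G] [MulSemiringAction G R] (q : Ideal R) [q.IsPrime]
    (hinj₀ : Function.Injective (algebraMap C₀ R)) (hinj : Function.Injective (algebraMap C R))
    (hfix₀ : ∀ a : R, (∀ g : G, g • a = a) ↔ a ∈ Set.range (algebraMap C₀ R))
    (hfix : ∀ a : R, (∀ g ∈ q.inertia G, g • a = a) ↔ a ∈ Set.range (algebraMap C R)) :
    Algebra.IsEtaleAt C₀ (q.comap (algebraMap C R)) := by
  obtain ⟨a, haI, -, -, hsep⟩ := InertiaEtaleLib.exists_element (G := G) q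
  obtain ⟨a', ha'⟩ := (hfix a).mp haI
  obtain ⟨P, -, ⟨s, hs, hg⟩, hstd⟩ := InertiaEtaleLib.exists_isStandardEtale
    (A := C₀) (B := C) (R := R) (q.inertia G) hinj₀ hinj (fun y hy => (hfix₀ y).mp hy)
    (fun g x => (hfix₀ _).mpr ⟨x, rfl⟩ g) (fun b h hh => (hfix _).mpr ⟨b, rfl⟩ h hh) a'
  let g₀ := Polynomial.aeval a' (Polynomial.derivative P)
  haveI : Algebra.Etale C₀ (Localization.Away g₀) := inferInstance
  have hmem : g₀ ∉ q.comap (algebraMap C R) := by
    intro hmem
    rw [Ideal.mem_comap, hg, ha'] at hmem
    obtain ⟨c, hc, hcq⟩ := (Ideal.IsPrime.prod_mem_iff (p := q)).1 hmem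
    refine hsep c.out (fun h => (hs c).1 hc ?_) ?_
    · rw [← QuotientGroup.out_eq' c, QuotientGroup.eq, mul_one, inv_mem_iff]
      exact h
    · rw [← neg_mem_iff, neg_sub]
      exact hcq
  exact Algebra.basicOpen_subset_etaleLocus_iff_etale.mpr inferInstance
    (show (⟨q.comap (algebraMap C R), inferInstance⟩ : PrimeSpectrum C) ∈
      PrimeSpectrum.basicOpen g₀ from hmem)

/-- Descending étaleness along a map which is étale at the point. -/
theorem isEtaleAt_of_comp {C₀ C₀' C C' : Type u} [CommRing C₀] [IsNoetherianRing C₀] [CommRing C₀']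
    [CommRing C] [CommRing C'] [Algebra C₀ C₀'] [Algebra C₀ C] [Algebra C C'] [Algebra C₀' C']
    [Algebra C₀ C'] [IsScalarTower C₀ C C'] [IsScalarTower C₀ C₀' C']
    [Algebra.FiniteType C₀ C₀'] [Algebra.FiniteType C₀ C']
    (w : Ideal C') [w.IsPrime] [Algebra.IsEtaleAt C₀ (w.comap (algebraMap C C'))]
    [Algebra.IsEtaleAt C w] [Algebra.IsEtaleAt C₀' w] :
    Algebra.IsEtaleAt C₀ (w.comap (algebraMap C₀' C')) := by
  haveI : IsNoetherianRing C₀' := Algebra.FiniteType.isNoetherianRing C₀ C₀'
  haveI : Algebra.FiniteType C₀' C' := Algebra.FiniteType.of_restrictScalars_finiteType C₀ C₀' C'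
  haveI : Algebra.FinitePresentation C₀' C' := Algebra.FinitePresentation.of_finiteType.mp ‹_›
  haveI : Algebra.FinitePresentation C₀ C' := Algebra.FinitePresentation.of_finiteType.mp ‹_›
  haveI : w.LiesOver (w.comap (algebraMap C C')) := ⟨rfl⟩
  haveI : Algebra.IsEtaleAt C₀ w := Algebra.IsEtaleAt.comp (w.comap (algebraMap C C')) w
  let v := w.comap (algebraMap C₀' C')
  let z := v.comap (algebraMap C₀ C₀')
  haveI : v.LiesOver z := ⟨rfl⟩
  haveI : w.LiesOver z := ⟨by
    show z = w.comap (algebraMap C₀ C')
    rw [IsScalarTower.algebraMap_eq C₀ C₀' C', ← Ideal.comap_comap]⟩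
  let Cz := Localization.AtPrime z
  let T := Localization.AtPrime w
  letI : Algebra Cz T := Localization.AtPrime.algebraOfLiesOver z w
  haveI : Module.Flat C₀ T := EtLocalLib.flat_of_isEtaleAt w
  haveI : Module.Flat C₀' T := EtLocalLib.flat_of_isEtaleAt w
  obtain ⟨-, hmap, -, hsep⟩ := (EtLocalLib.isEtaleAt_iff z w).mp inferInstance
  haveI : Algebra.IsSeparable (ResidueField Cz) (ResidueField T) := hsep
  refine isEtaleAt_of_flat_local (T := T) v ?_ z hmap
  rw [IsScalarTower.algebraMap_eq C₀' C' T, ← Ideal.comap_comap]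
  exact congrArg (Ideal.comap (algebraMap C₀' C')) (IsLocalization.AtPrime.comap_maximalIdeal T w)

/-- Finiteness properties of the invariants of a finite group acting on a finite type algebra. -/
theorem finite_of_invariants {R C B : Type u} [CommRing R] [IsNoetherianRing R] [CommRing C]
    [CommRing B] [Algebra R C] [Algebra C B] [Algebra R B] [IsScalarTower R C B]
    [Algebra.FiniteType R B] {G : Type u} [Group G] [Finite G] [MulSemiringAction G B]
    (hinj : Function.Injective (algebraMap C B))
    (hfix : ∀ b : B, (∀ g : G, g • b = b) ↔ b ∈ Set.range (algebraMap C B)) :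
    Module.Finite C B ∧ Algebra.FiniteType R C ∧ IsNoetherianRing C := by
  haveI : Algebra.IsInvariant C B G := ⟨fun b hb => (hfix b).mp hb⟩
  haveI : SMulCommClass G C B := ⟨fun g c b => by
    rw [Algebra.smul_def, Algebra.smul_def, smul_mul', (hfix _).mpr ⟨c, rfl⟩ g]⟩
  haveI : Algebra.IsIntegral C B := Algebra.IsInvariant.isIntegral C B G
  haveI : Algebra.FiniteType C B := Algebra.FiniteType.of_restrictScalars_finiteType R C B
  haveI hfin : Module.Finite C B := Algebra.IsIntegral.finite
  have hC : Algebra.FiniteType R C :=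
    ⟨fg_of_fg_of_fg R C B (Algebra.FiniteType.out) Module.Finite.fg_top hinj⟩
  exact ⟨hfin, hC, Algebra.FiniteType.isNoetherianRing R C⟩

/-- Invariants of an equivariant map are étale at a point at which the map is étale and the
inertia groups agree. -/
theorem isEtaleAt_fixedPoints (R : Type u) [CommRing R] [IsNoetherianRing R] (A B : Type u)
    [CommRing A] [CommRing B] [Algebra R A] [Algebra R B]
    [Algebra.FiniteType R A] [Algebra.FiniteType R B]
    (G : Type u) [Group G] [Finite G] [MulSemiringAction G A] [MulSemiringAction G B]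
    [SMulCommClass G R A] [SMulCommClass G R B]
    [Algebra B A] [IsScalarTower R B A]
    (hGeq : ∀ (g : G) (b : B), algebraMap B A (g • b) = g • algebraMap B A b)
    [Algebra (FixedPoints.subalgebra R B G) (FixedPoints.subalgebra R A G)]
    [IsScalarTower (FixedPoints.subalgebra R B G) (FixedPoints.subalgebra R A G) A]
    (x : Ideal A) [x.IsPrime] [Algebra.IsEtaleAt B x]
    (hin : x.inertia G = (x.comap (algebraMap B A)).inertia G) :
    Algebra.IsEtaleAt (FixedPoints.subalgebra R B G)
      (x.comap (algebraMap (FixedPoints.subalgebra R A G) A)) := by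
  let H := x.inertia G
  haveI : SMulCommClass H R A := ⟨fun h r a => smul_comm (h : G) r a⟩
  haveI : SMulCommClass H R B := ⟨fun h r b => smul_comm (h : G) r b⟩
  let C₀ := FixedPoints.subalgebra R B G
  let C₀' := FixedPoints.subalgebra R A G
  let C := FixedPoints.subalgebra R B H
  let C' := FixedPoints.subalgebra R A H
  have hB₀ : ∀ b : B, (∀ g : G, g • b = b) ↔ b ∈ Set.range (algebraMap C₀ B) := fun b =>
    ⟨fun h => ⟨⟨b, h⟩, rfl⟩, by rintro ⟨c, rfl⟩ g; exact c.2 g⟩
  have hA₀ : ∀ a : A, (∀ g : G, g • a = a) ↔ a ∈ Set.range (algebraMap C₀' A) := fun a =>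
    ⟨fun h => ⟨⟨a, h⟩, rfl⟩, by rintro ⟨c, rfl⟩ g; exact c.2 g⟩
  have hB : ∀ b : B, (∀ g : H, g • b = b) ↔ b ∈ Set.range (algebraMap C B) := fun b =>
    ⟨fun h => ⟨⟨b, h⟩, rfl⟩, by rintro ⟨c, rfl⟩ g; exact c.2 g⟩
  have hA : ∀ a : A, (∀ g : H, g • a = a) ↔ a ∈ Set.range (algebraMap C' A) := fun a =>
    ⟨fun h => ⟨⟨a, h⟩, rfl⟩, by rintro ⟨c, rfl⟩ g; exact c.2 g⟩
  have hle : C₀ ≤ C := fun b hb h => hb h
  have hle' : C₀' ≤ C' := fun a ha h => ha h
  letI : Algebra C₀ C := (Subalgebra.inclusion hle).toRingHom.toAlgebra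
  letI : Algebra C₀' C' := (Subalgebra.inclusion hle').toRingHom.toAlgebra
  let f : C →+* C' :=
    RingHom.codRestrict ((algebraMap B A).comp (algebraMap C B)) C' fun c h => by
      show (h : G) • algebraMap B A (c : B) = algebraMap B A (c : B)
      rw [← hGeq]
      exact congrArg (algebraMap B A) (c.2 h)
  letI : Algebra C C' := f.toAlgebra
  letI : Algebra C₀ C' := (f.comp (algebraMap C₀ C)).toAlgebra
  haveI : IsScalarTower C₀ C B := IsScalarTower.of_algebraMap_eq fun _ => rfl
  haveI : IsScalarTower C₀' C' A := IsScalarTower.of_algebraMap_eq fun _ => rfl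
  haveI : IsScalarTower C B A := IsScalarTower.of_algebraMap_eq fun _ => rfl
  haveI : IsScalarTower C C' A := IsScalarTower.of_algebraMap_eq fun _ => rfl
  haveI : IsScalarTower C₀ C C' := IsScalarTower.of_algebraMap_eq fun _ => rfl
  haveI : IsScalarTower C₀ C₀' C' := IsScalarTower.of_algebraMap_eq fun c => by
    refine Subtype.ext ?_
    show algebraMap B A (c : B) = algebraMap C₀' A (algebraMap C₀ C₀' c)
    rw [← IsScalarTower.algebraMap_apply]
    rfl
  haveI : IsScalarTower R C₀ C₀' := IsScalarTower.of_algebraMap_eq fun r => by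
    refine Subtype.ext ?_
    show algebraMap R A r = algebraMap C₀' A (algebraMap C₀ C₀' (algebraMap R C₀ r))
    rw [← IsScalarTower.algebraMap_apply C₀ C₀' A]
    exact IsScalarTower.algebraMap_apply R B A r
  haveI : IsScalarTower R C C' := IsScalarTower.of_algebraMap_eq fun r => Subtype.ext
    (IsScalarTower.algebraMap_apply R B A r)
  haveI : IsScalarTower R C A := IsScalarTower.of_algebraMap_eq fun r =>
    IsScalarTower.algebraMap_apply R B A r
  haveI : IsScalarTower R C₀ C' := IsScalarTower.of_algebraMap_eq fun r => Subtype.ext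
    (IsScalarTower.algebraMap_apply R B A r)
  haveI : IsScalarTower R C₀ C := IsScalarTower.of_algebraMap_eq fun _ => rfl
  obtain ⟨hf₀, ht₀, hn₀⟩ := finite_of_invariants (R := R) (C := C₀) (B := B)
    Subtype.val_injective hB₀
  obtain ⟨hf, ht, hn⟩ := finite_of_invariants (R := R) (C := C) (B := B) Subtype.val_injective hB
  obtain ⟨-, ht₀', hn₀'⟩ := finite_of_invariants (R := R) (C := C₀') (B := A)
    Subtype.val_injective hA₀
  obtain ⟨-, ht', hn'⟩ := finite_of_invariants (R := R) (C := C') (B := A) Subtype.val_injective hA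
  haveI : Algebra.FiniteType C A := Algebra.FiniteType.of_restrictScalars_finiteType R C A
  haveI : Algebra.FiniteType C C' := Algebra.FiniteType.of_restrictScalars_finiteType R C C'
  haveI : Algebra.FiniteType C₀ C₀' := Algebra.FiniteType.of_restrictScalars_finiteType R C₀ C₀'
  haveI : Algebra.FiniteType C₀ C' := Algebra.FiniteType.of_restrictScalars_finiteType R C₀ C'
  haveI : Algebra.FiniteType C₀ C := Algebra.FiniteType.of_restrictScalars_finiteType R C₀ C
  haveI : IsScalarTower R C₀' C' := IsScalarTower.of_algebraMap_eq fun _ => rfl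
  haveI : Algebra.FiniteType C₀' C' := Algebra.FiniteType.of_restrictScalars_finiteType R C₀' C'
  haveI : Algebra.FinitePresentation C₀ C := Algebra.FinitePresentation.of_finiteType.mp ‹_›
  haveI : Algebra.FinitePresentation C₀' C' := Algebra.FinitePresentation.of_finiteType.mp ‹_›
  let w := x.comap (algebraMap C' A)
  haveI : Algebra.IsEtaleAt C w :=
    isEtaleAt_invariants_of_trivial (I := H) (fun g b => hGeq g b) hB hA Subtype.val_injective
      Subtype.val_injective x fun g a => g.2 a
  have hwz : w.comap (algebraMap C C') = (x.comap (algebraMap B A)).comap (algebraMap C B) := by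
    rw [Ideal.comap_comap, Ideal.comap_comap]
    rfl
  haveI : Algebra.IsEtaleAt C₀ (w.comap (algebraMap C C')) := by
    have h := isEtaleAt_inertiaInvariants (C₀ := C₀) (C := C) (R := B) (G := G)
      (x.comap (algebraMap B A)) Subtype.val_injective Subtype.val_injective hB₀
      (fun b => by
        rw [← hin, ← hB b]
        exact ⟨fun h g => h g g.2, fun h g hg => h ⟨g, hg⟩⟩)
    convert h using 2
  haveI : Algebra.IsEtaleAt C₀' w :=
    isEtaleAt_inertiaInvariants (C₀ := C₀') (C := C') (R := A) (G := G) x Subtype.val_injective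
      Subtype.val_injective hA₀ (fun a => by
        rw [← hA a]
        exact ⟨fun h g => h g g.2, fun h g hg => h ⟨g, hg⟩⟩)
  have := isEtaleAt_of_comp (C₀ := C₀) (C₀' := C₀') (C := C) (C' := C') w
  convert this using 2
  show x.comap (algebraMap C₀' A) = (x.comap (algebraMap C' A)).comap (algebraMap C₀' C')
  rw [Ideal.comap_comap]
  rfl

end Groth.Agent.EquivEtInvLib
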